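import Groth.Agent.Lib.CurvePair32.Main
import Groth.Agent.S1627

/-!
# `H¹(μ_n)` of a smooth curve and the group of pairs
-/

set_option autoImplicit false
set_option linter.style.haveILetI false
set_option linter.unusedSectionVars false
set_option backward.isDefEq.respectTransparency.types false
set_option maxHeartbeats 1000000

universe u

open CategoryTheory CategoryTheory.Limits AlgebraicGeometry Opposite CategoryTheory.Abelian

noncomputable section

namespace Groth.Agent.CurvePair32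

open Groth.Agent CurveOpen32 W4c1etcurveeff2

noncomputable local instance instLawPairIso32 (Y : Scheme.{u}) : PicGrp.Law Y := M2.law Y

theorem card_H_congr {Y : Scheme.{u}} {F G : EtCoh.Ab Y} (e : F ≅ G) (q : ℕ) :
    Nat.card (EtCoh.H Y F q) = Nat.card (EtCoh.H Y G q) :=
  Nat.card_congr
    { toFun := fun x => x.comp (Ext.mk₀ e.hom) (add_zero q)
      invFun := fun x => x.comp (Ext.mk₀ e.inv) (add_zero q)
      left_inv := fun x => by simp
      right_inv := fun x => by simp }

variable {k : Type u} [Field k] [IsAlgClosed k]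

theorem exists_mu_iso {Y : Scheme.{u}} (p : Y ⟶ Spec (CommRingCat.of k)) [IsIntegral Y] {n : ℕ} (hn : 1 ≤ n)
    (hnk : (n : k) ≠ 0) : Nonempty (EtCoh.mu Y n ≅ EtCoh.const Y (ZMod n)) := by
  obtain ⟨z, hz⟩ := IsAlgClosed.exists_root (Polynomial.cyclotomic n k)
    (Polynomial.degree_cyclotomic_pos n k (by omega)).ne'
  let φ : k →+* Γ(Y, ⊤) := ((Scheme.ΓSpecIso (CommRingCat.of k)).inv ≫ p.appTop).hom
  refine Kummer24.nonempty_mu_iso hn (isUnit_natCast p hnk) (φ z) ?_
  have h : (Polynomial.cyclotomic n Γ(Y, ⊤)).eval (φ z) = 0 := by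
    rw [← Polynomial.map_cyclotomic n φ, Polynomial.eval_map, Polynomial.eval₂_hom, hz.eq_zero, map_zero]
  rw [← Polynomial.map_cyclotomic_int n, Polynomial.eval_map] at h
  rw [Polynomial.aeval_def, algebraMap_int_eq]
  exact h

variable {X : Scheme.{u}} [IsIntegral X] [IsNoetherian X] (c : X ⟶ Spec (CommRingCat.of k)) [IsSeparated c]
  [LocallyOfFiniteType c] [QuasiCompact c] [Smooth c] (hdim : topologicalKrullDim X = 1)

include c hdim in
/-- The order of `H¹(μ_d)` of a smooth curve is a fixed power of `d`. -/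
theorem exists_card_H1 : ∃ R : ℕ, ∀ d : ℕ, 1 ≤ d → (d : k) ≠ 0 →
    Nat.card (EtCoh.H X (EtCoh.mu X d) 1) = d ^ R := by
  letI : X.Over (Spec (CommRingCat.of k)) := ⟨c⟩
  haveI : IsSeparated (X ↘ Spec (CommRingCat.of k)) := ‹IsSeparated c›
  haveI : LocallyOfFiniteType (X ↘ Spec (CommRingCat.of k)) := ‹LocallyOfFiniteType c›
  haveI : QuasiCompact (X ↘ Spec (CommRingCat.of k)) := ‹QuasiCompact c›
  haveI : Smooth (X ↘ Spec (CommRingCat.of k)) := ‹Smooth c›
  rcases Groth.Agent.S1627.result k X hdim with hA | ⟨N, i, hi, hi'⟩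
  · haveI := hA
    have hN : Pi1.IsNormalScheme X := isNormal (c := c)
    obtain ⟨Y, hY, qY, j, hq, hj, hjq, hYN, hYX⟩ := CurveNF.exists_completion_integral c
      (fun y hy => Curve17.ringKrullDim_stalk hdim hy) hN
    haveI : IsLocallyNoetherian Y := LocallyOfFiniteType.isLocallyNoetherian qY
    haveI : LocallyOfFinitePresentation qY := inferInstance
    haveI hsm : Smooth qY := RegSmooth17.smooth_of_regular_of_perfectField qY fun y => by
      haveI := (hYN y).1
      haveI := (hYN y).2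
      exact DVRVal.isRegularLocalRing_of_normal _ (DVRVal.ringKrullDim_stalk_le_one qY hYX y)
    have hdY : topologicalKrullDim Y = 1 := by
      rw [VarDim.topologicalKrullDim_eq_height_genericPoint, VarDim.height_eq_sdim qY,
        (CurveNF.curve_iff_sdim_genericPoint qY).1 hYX]
      rfl
    letI : Y.Over (Spec (CommRingCat.of k)) := ⟨qY⟩
    haveI : IsProper (Y ↘ Spec (CommRingCat.of k)) := hq
    haveI : Smooth (Y ↘ Spec (CommRingCat.of k)) := hsm
    let V := j.opensRange
    haveI : IsAffine (V : Scheme.{u}) := .of_isIso j.isoOpensRange.inv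
    have hV : (V : Set Y).Nonempty := ⟨j (genericPoint X), genericPoint X, rfl⟩
    have hfin : ((V : Set Y)ᶜ).Finite := CurveNF.finite_of_isClosed qY hYX V.2.isClosed_compl fun h =>
      h (((genericPoint_spec Y).mem_open_set_iff V.2).2 ⟨hV.some, trivial, hV.some_mem⟩)
    haveI : Nonempty (V : Scheme.{u}) := ⟨⟨hV.some, hV.some_mem⟩⟩
    haveI : IsIntegral (V : Scheme.{u}) := isIntegral_of_isOpenImmersion V.ι
    have hr : (V : Set Y)ᶜ.Nonempty := by
      rw [Set.nonempty_iff_ne_empty]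
      intro h0
      haveI : IsIso j := isIso_of_isOpenImmersion_of_opensRange_eq_top j
        (SetLike.ext' (Set.compl_empty_iff.1 h0))
      haveI : IsProper c := by rw [← hjq]; infer_instance
      haveI : IsFinite c := IsFinite.iff_isProper_and_isAffineHom.2 ⟨inferInstance, inferInstance⟩
      have h1 := AlgSpDecent.topologicalKrullDim_le_of_lqf c
      have h2 : topologicalKrullDim (Spec (CommRingCat.of k)) = 0 :=
        (PrimeSpectrum.topologicalKrullDim_eq_ringKrullDim k).trans (ringKrullDim_eq_zero_of_field k)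
      rw [hdim, h2] at h1
      exact absurd h1 (by decide)
    haveI : Finite ↥((V : Set Y)ᶜ) := hfin.to_subtype
    haveI : Nonempty ↥((V : Set Y)ᶜ) := hr.to_subtype
    have hr1 : 1 ≤ Nat.card ↥((V : Set Y)ᶜ) := Nat.card_pos
    refine ⟨2 * Curv2.genus k Y + Nat.card ↥((V : Set Y)ᶜ) - 1, fun d hd hdk => ?_⟩
    obtain ⟨μ⟩ := exists_mu_iso c hd hdk
    obtain ⟨μ'⟩ := exists_mu_iso (V.ι ≫ qY) hd hdk
    let i₀ := j.isoOpensRange.inv
    haveI : PreservesFiniteLimits (EtCoh.pull i₀) := EtStalk.preservesFiniteLimits_pull i₀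
    rw [card_H_congr μ 1, Nat.card_eq_of_bijective _ (LocAcyc24.bijective_Hpull_of_isIso i₀ (EtCoh.const X (ZMod d)) 1),
      card_H_congr (EtCore.pullConst i₀ (ZMod d)) 1, ← card_H_congr μ' 1]
    refine Nat.eq_of_mul_eq_mul_right (show 0 < d by omega) ((card_H1_open hdY V hV hfin hd hdk).trans ?_)
    rw [← pow_succ, ← pow_add]
    congr 1
    omega
  · haveI := hi
    haveI : IsProper c := by
      rw [show c = i ≫ CohB1.ProjSpace.toSpec N k from hi'.symm]
      infer_instance
    haveI : IsProper (X ↘ Spec (CommRingCat.of k)) := ‹IsProper c›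
    refine ⟨2 * Curv2.genus k X, fun d hd hdk => ?_⟩
    haveI : NeZero d := ⟨by omega⟩
    haveI : CompactSpace X := QuasiCompact.compactSpace_of_compactSpace c
    rw [card_H1_mu (isUnit_natCast c hdk)]
    have h1 : Nat.card (Additive Γ(X, ⊤)ˣ ⧸ nMul d (Additive Γ(X, ⊤)ˣ)) = 1 := by
      have htop : nMul d (Additive Γ(X, ⊤)ˣ) = ⊤ := eq_top_iff.2 fun u _ => by
        obtain ⟨v, hv⟩ := (CurveFin32.units_props c (show 0 < d by omega)).1 u.toMul
        exact ⟨Additive.ofMul v, (ofMul_pow d v).symm.trans (congrArg Additive.ofMul hv)⟩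
      rw [htop]
      exact AddSubgroup.index_top
    obtain ⟨t⟩ := (CurveH32.pic_structure k hdim (C := X)).2 d hdk
    rw [h1, one_mul]
    refine (Nat.card_congr ?_).trans ((Nat.card_congr (t.toEquiv.trans Multiplicative.toAdd)).trans
      (by rw [Nat.card_fun, Nat.card_zmod, Nat.card_fin]))
    exact Additive.toMul.subtypeEquiv fun x => by
      show d • x = 0 ↔ x.toMul ^ d = 1
      exact Iff.rfl

include hdim in
/-- `H¹(μ_n)` is the group of pairs. -/
theorem nonempty_H1_equiv {n : ℕ} (hn : 1 ≤ n) (hnk : (n : k) ≠ 0) :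
    Nonempty (EtCoh.H X (EtCoh.mu X n) 1 ≃+ KummerPairGrp c n) := by
  obtain ⟨R, hR⟩ := exists_card_H1 c hdim
  haveI : CompactSpace X := QuasiCompact.compactSpace_of_compactSpace c
  have hP : ∀ d : ℕ, 1 ≤ d → (d : k) ≠ 0 → Nat.card (KummerPairGrp c d) = d ^ R := fun d hd hdk => by
    rw [card_pairs hdim hd, ← card_H1_mu (isUnit_natCast c hdk), hR d hd hdk]
  haveI : Finite (EtCoh.H X (EtCoh.mu X n) 1) :=
    Nat.finite_of_card_ne_zero (by rw [hR n hn hnk]; exact pow_ne_zero _ (by omega))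
  haveI : Finite (KummerPairGrp c n) :=
    Nat.finite_of_card_ne_zero (by rw [hP n hn hnk]; exact pow_ne_zero _ (by omega))
  have hsplit : ∀ {d : ℕ}, d ∣ n → ∃ m, n = d * m ∧ 1 ≤ d ∧ 1 ≤ m ∧ (d : k) ≠ 0 := by
    rintro d ⟨m, rfl⟩
    refine ⟨m, rfl, Nat.one_le_iff_ne_zero.2 fun h => ?_, Nat.one_le_iff_ne_zero.2 fun h => ?_, fun h => hnk ?_⟩
    · subst h; simp at hn
    · subst h; simp at hn
    · rw [Nat.cast_mul, h, zero_mul]
  obtain ⟨e₁⟩ := nonempty_addEquiv_zmod (G := EtCoh.H X (EtCoh.mu X n) 1) (R := R) (show 0 < n by omega)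
    (fun x => (Dix24.comp_mk₀_nsmul_id n x).symm.trans (by rw [nsmul_id_mu, Ext.mk₀_zero, Ext.comp_zero]))
    fun d hd => by
      obtain ⟨m, rfl, h1, h2, h3⟩ := hsplit hd
      rw [card_nTor_H1_mu c h1 h2 hnk, hR d h1 h3]
  obtain ⟨e₂⟩ := nonempty_addEquiv_zmod (G := KummerPairGrp c n) (R := R) (show 0 < n by omega)
    (fun x => nsmul_eq_zero hdim x) fun d hd => by
      obtain ⟨m, rfl, h1, h2, h3⟩ := hsplit hd
      rw [card_nTor_pairs hdim h1 h2 hnk, hP d h1 h3]
  exact ⟨e₁.trans e₂.symm⟩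

end Groth.Agent.CurvePair32
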