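import Groth.Agent.Lib.CurveOpen32.Finite
import Groth.Agent.Lib.LocSymB.Values
import Groth.Prelude.Def_W4c1etcurveeff2PicMod

/-!
# Pairs of a divisor and a function on a smooth curve, and `H¹(μ_n)`
-/

set_option autoImplicit false
set_option linter.style.haveILetI false
set_option linter.unusedSectionVars false
set_option backward.isDefEq.respectTransparency.types false
set_option maxHeartbeats 1000000

universe u

open CategoryTheory CategoryTheory.Limits AlgebraicGeometry Opposite CategoryTheory.Abelian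

noncomputable section

namespace Groth.Agent.CurvePair32

open Groth.Agent CurveOpen32 W4c1etcurveeff2

noncomputable local instance instLawPair32 (Y : Scheme.{u}) : PicGrp.Law Y := M2.law Y

variable {k : Type u} [Field k] [IsAlgClosed k] {X : Scheme.{u}} [IsIntegral X] [IsNoetherian X]
  {c : X ⟶ Spec (CommRingCat.of k)} [IsSeparated c] [LocallyOfFiniteType c] [Smooth c]
  (hdim : topologicalKrullDim X = 1)

include c in
theorem isNormal (x : X) : IsDomain (X.presheaf.stalk x) ∧ IsIntegrallyClosed (X.presheaf.stalk x) :=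
  ⟨inferInstance, SmoothReg17.isIntegrallyClosed_stalk c x⟩

/-- Rational points are the points other than the generic one. -/
def ptEquiv : LocSym.Pt c ≃ CurveOpen32.Pt X :=
  Equiv.ofBijective (fun x => ⟨x.pt, fun h => by
      haveI := LocSymB.isDiscreteValuationRing_stalk hdim x
      refine IsDiscreteValuationRing.not_isField (X.presheaf.stalk x.pt) ?_
      rw [h]
      exact Field.toIsField X.functionField⟩)
    ⟨fun a b h => LocSymB.pt_injective (congrArg Subtype.val h), fun y => by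
      obtain ⟨x, hx⟩ := LocSymB.exists_pt_of_isClosed (c := c) (Curve17.isClosed_singleton hdim.le y.2)
      exact ⟨x, Subtype.ext hx⟩⟩

theorem ord_eq (x : LocSym.Pt c) (g : X.functionField) :
    x.ord g = Scheme.ord g (ptEquiv hdim x).1 :=
  FunFldRH25.ord_eq_ordFrac (FunFldRH25.coheight_one_of_ne hdim (ptEquiv hdim x).2) g

/-- Divisors on rational points as divisors on points. -/
def divEquiv : (LocSym.Pt c →₀ ℤ) ≃+ (CurveOpen32.Pt X →₀ ℤ) := Finsupp.domCongr (ptEquiv hdim)

local notation "dX" => CurveOpen32.divHom (isNormal (c := c)) hdim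

theorem mem_condition (n : ℕ) (p : (LocSym.Pt c →₀ ℤ) × Additive (X.functionField)ˣ) :
    (∀ x : LocSym.Pt c, (n : ℤ) * p.1 x = x.ord ((p.2).toMul : X.functionField)) ↔
      n • divEquiv hdim p.1 = dX p.2 := by
  rw [Finsupp.ext_iff]
  refine ⟨fun h y => ?_, fun h x => ?_⟩
  · have := h ((ptEquiv hdim).symm y)
    rw [ord_eq hdim, Equiv.apply_symm_apply] at this
    rw [Finsupp.smul_apply, nsmul_eq_mul]
    simp [divEquiv] at this ⊢
    exact this
  · have := h (ptEquiv hdim x)
    rw [Finsupp.smul_apply, nsmul_eq_mul] at this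
    rw [ord_eq hdim]
    simp [divEquiv] at this ⊢
    exact this

/-- The pairs, as a kernel. -/
def pairs (n : ℕ) : AddSubgroup ((LocSym.Pt c →₀ ℤ) × Additive (X.functionField)ˣ) :=
  ((n • AddMonoidHom.id _).comp ((divEquiv hdim).toAddMonoidHom.comp (AddMonoidHom.fst _ _)) -
    (dX).comp (AddMonoidHom.snd _ _)).ker

theorem mem_pairs {n : ℕ} {p : (LocSym.Pt c →₀ ℤ) × Additive (X.functionField)ˣ} :
    p ∈ pairs hdim n ↔ n • divEquiv hdim p.1 = dX p.2 := by
  rw [pairs, AddMonoidHom.mem_ker]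
  exact sub_eq_zero

theorem kummerPairs_eq (n : ℕ) : kummerPairs c n = pairs hdim n := by
  rw [kummerPairs, ← AddSubgroup.closure_eq (pairs hdim n)]
  congr 1
  ext p
  exact (mem_condition hdim n p).trans (mem_pairs hdim).symm

theorem kummerPairsPow_eq (n : ℕ) :
    kummerPairsPow c n = pairs hdim n ⊓ (nMul n (Additive (X.functionField)ˣ)).comap (AddMonoidHom.snd _ _) := by
  rw [kummerPairsPow, ← AddSubgroup.closure_eq (pairs hdim n ⊓ _)]
  congr 1
  ext p
  refine and_congr ((mem_condition hdim n p).trans (mem_pairs hdim).symm) ?_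
  constructor
  · rintro ⟨h, hh⟩
    exact ⟨Additive.ofMul h, (ofMul_pow n h).symm.trans (congrArg Additive.ofMul hh.symm)⟩
  · rintro ⟨h, hh⟩
    exact ⟨h.toMul, (congrArg Additive.toMul hh).symm⟩

theorem mem_kp {n : ℕ} {p : (LocSym.Pt c →₀ ℤ) × Additive (X.functionField)ˣ} :
    p ∈ kummerPairs c n ↔ n • divEquiv hdim p.1 = dX p.2 := by
  rw [kummerPairs_eq hdim, mem_pairs]

include hdim in
theorem mk_eq_zero_iff {n : ℕ} (p : kummerPairs c n) :
    (QuotientAddGroup.mk p : KummerPairGrp c n) = 0 ↔ ∃ h, n • h = p.1.2 := by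
  rw [QuotientAddGroup.eq_zero_iff, AddSubgroup.mem_addSubgroupOf, kummerPairsPow_eq hdim]
  exact ⟨fun h => h.2, fun h => ⟨(mem_pairs hdim).2 ((mem_kp hdim).1 p.2), h⟩⟩

include hdim in
theorem nsmul_eq_zero {n : ℕ} (y : KummerPairGrp c n) : n • y = 0 := by
  obtain ⟨p, rfl⟩ := QuotientAddGroup.mk_surjective y
  rw [← QuotientAddGroup.mk_nsmul, mk_eq_zero_iff hdim]
  exact ⟨p.1.2, rfl⟩

include hdim in
theorem card_pairs {d : ℕ} (hd : 1 ≤ d) :
    Nat.card (KummerPairGrp c d) =
      Nat.card (Additive Γ(X, ⊤)ˣ ⧸ nMul d (Additive Γ(X, ⊤)ˣ)) *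
        Nat.card (nTor d (Additive (PicLoc.PicSet X))) := by
  have hN : Pi1.IsNormalScheme X := isNormal (c := c)
  let U : Additive Γ(X, ⊤)ˣ →+ Additive (X.functionField)ˣ := MonoidHom.toAdditive (unitsHom (U := X))
  have hU : ∀ g : Additive (X.functionField)ˣ, dX g = 0 ↔ ∃ u, U u = g := fun g =>
    (mem_range_unitsHom_iff hN hdim g.toMul).symm.trans
      ⟨fun ⟨u, hu⟩ => ⟨Additive.ofMul u, hu⟩, fun ⟨u, hu⟩ => ⟨u.toMul, hu⟩⟩
  let f : Additive Γ(X, ⊤)ˣ →+ KummerPairGrp c d := (QuotientAddGroup.mk' _).comp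
    (((0 : Additive Γ(X, ⊤)ˣ →+ (LocSym.Pt c →₀ ℤ)).prod U).codRestrict (kummerPairs c d) fun u => (mem_kp hdim).2 (by
      show d • divEquiv hdim 0 = dX (U u)
      rw [map_zero, smul_zero, (hU _).2 ⟨u, rfl⟩]))
  let g₀ : kummerPairs c d →+ nTor d (Additive (PicLoc.PicSet X)) :=
    ((clsHom hN hdim).comp ((divEquiv hdim).toAddMonoidHom.comp
      ((AddMonoidHom.fst _ _).comp (kummerPairs c d).subtype))).codRestrict _ fun p => by
        show d • clsHom hN hdim (divEquiv hdim p.1.1) = 0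
        rw [← map_nsmul, clsHom_eq_zero_iff, (mem_kp hdim).1 p.2]
        exact ⟨_, rfl⟩
  let g : KummerPairGrp c d →+ nTor d (Additive (PicLoc.PicSet X)) := QuotientAddGroup.lift _ g₀ fun p hp => by
    obtain ⟨h, hh⟩ := (mk_eq_zero_iff hdim p).1 ((QuotientAddGroup.eq_zero_iff _).2 hp)
    refine AddMonoidHom.mem_ker.2 (Subtype.ext ?_)
    show clsHom hN hdim (divEquiv hdim p.1.1) = 0
    rw [clsHom_eq_zero_iff]
    refine ⟨h, smul_right_injective _ (show d ≠ 0 by omega) ?_⟩
    show d • dX h = d • divEquiv hdim p.1.1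
    rw [(mem_kp hdim).1 p.2, ← map_nsmul, hh]
  have hg : Function.Surjective g := by
    rintro ⟨x, hx⟩
    obtain ⟨D, rfl⟩ := clsHom_surjective hN hdim x
    have h1 : d • clsHom hN hdim D = 0 := hx
    rw [← map_nsmul, clsHom_eq_zero_iff] at h1
    obtain ⟨φ, hφ⟩ := h1
    refine ⟨QuotientAddGroup.mk ⟨((divEquiv hdim).symm D, φ), (mem_kp hdim).2 ?_⟩, Subtype.ext ?_⟩
    · show d • divEquiv hdim ((divEquiv hdim).symm D) = dX φ
      rw [AddEquiv.apply_symm_apply, hφ]
    · show clsHom hN hdim (divEquiv hdim ((divEquiv hdim).symm D)) = clsHom hN hdim D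
      rw [AddEquiv.apply_symm_apply]
  have he : g.ker = f.range := by
    ext y
    obtain ⟨p, rfl⟩ := QuotientAddGroup.mk_surjective y
    constructor
    · intro hy
      have h1 : clsHom hN hdim (divEquiv hdim p.1.1) = 0 := congrArg Subtype.val (AddMonoidHom.mem_ker.1 hy)
      obtain ⟨h, hh⟩ := (clsHom_eq_zero_iff hN hdim _).1 h1
      obtain ⟨u, hu⟩ := (hU (p.1.2 - d • h)).1 (by
        rw [map_sub, map_nsmul, hh, ← (mem_kp hdim).1 p.2, sub_self])
      refine ⟨u, (QuotientAddGroup.eq).2 ?_⟩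
      refine (QuotientAddGroup.eq_zero_iff _).1 ((mk_eq_zero_iff hdim _).2 ⟨h, ?_⟩)
      show d • h = -U u + p.1.2
      rw [hu]
      abel
    · rintro ⟨u, hu⟩
      rw [← hu]
      refine AddMonoidHom.mem_ker.2 (Subtype.ext ?_)
      show clsHom hN hdim (divEquiv hdim 0) = 0
      rw [map_zero, map_zero]
  have hf : f.ker = nMul d _ := by
    ext u
    constructor
    · intro hu
      obtain ⟨h, hh⟩ := (mk_eq_zero_iff hdim _).1 (AddMonoidHom.mem_ker.1 hu)
      have hh' : d • h = U u := hh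
      have h2 : dX h = 0 := smul_right_injective _ (show d ≠ 0 by omega) (by
        show d • dX h = d • (0 : CurveOpen32.Pt X →₀ ℤ)
        rw [← map_nsmul, hh', (hU _).2 ⟨u, rfl⟩, smul_zero])
      obtain ⟨v, rfl⟩ := (hU h).1 h2
      refine ⟨v, Additive.toMul.injective (unitsHom_injective ?_)⟩
      show (U (d • v)).toMul = (U u).toMul
      rw [map_nsmul, hh']
    · rintro ⟨v, rfl⟩
      exact AddMonoidHom.mem_ker.2 ((mk_eq_zero_iff hdim _).2 ⟨U v, (map_nsmul U d v).symm⟩)
  rw [card_of_exact f g hg he, hf]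

include c hdim in
theorem exists_root_of_torsion {m : ℕ} (hm : 1 ≤ m) (hmk : (m : k) ≠ 0) {z : Additive (X.functionField)ˣ}
    (hz : m • z = 0) {d : ℕ} (hd : 1 ≤ d) : ∃ w, d • w = z := by
  haveI : NeZero m := ⟨by omega⟩
  haveI : NeZero (m : k) := ⟨hmk⟩
  let φ := LocSym.constFun c
  have hinj : Function.Injective (restrictRootsOfUnity φ m) := fun a b hab =>
    Subtype.ext (Units.ext (φ.injective (show φ ((a : kˣ) : k) = φ ((b : kˣ) : k) from
      congrArg (fun z : rootsOfUnity m X.functionField => ((z : (X.functionField)ˣ) : X.functionField)) hab)))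
  have hbij : Function.Bijective (restrictRootsOfUnity φ m) := by
    refine (Nat.bijective_iff_injective_and_card _).2 ⟨hinj, le_antisymm (Nat.card_le_card_of_injective _ hinj) ?_⟩
    rw [HasEnoughRootsOfUnity.natCard_rootsOfUnity k m]
    exact card_rootsOfUnity _ m
  obtain ⟨a, ha⟩ := hbij.2 ⟨z.toMul, (mem_rootsOfUnity m _).2 (congrArg Additive.toMul hz)⟩
  obtain ⟨b, hb⟩ := IsAlgClosed.exists_pow_nat_eq ((a : kˣ) : k) (show 0 < d by omega)
  have hb0 : b ≠ 0 := fun h => (a : kˣ).ne_zero (by rw [← hb, h, zero_pow (by omega)])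
  refine ⟨Additive.ofMul (Units.map φ.toMonoidHom (Units.mk0 b hb0)), Additive.toMul.injective (Units.ext ?_)⟩
  show φ b ^ d = _
  rw [← map_pow, hb]
  exact congrArg (fun z : rootsOfUnity m X.functionField => ((z : (X.functionField)ˣ) : X.functionField)) ha

include hdim in
theorem card_nTor_pairs {d m : ℕ} (hd : 1 ≤ d) (hm : 1 ≤ m) (hk : ((d * m : ℕ) : k) ≠ 0) :
    Nat.card (nTor d (KummerPairGrp c (d * m))) = Nat.card (KummerPairGrp c d) := by
  have hk' := hk
  rw [Nat.cast_mul, mul_ne_zero_iff] at hk'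
  let F₀ : kummerPairs c d →+ nTor d (KummerPairGrp c (d * m)) :=
    ((QuotientAddGroup.mk' _).comp ((((AddMonoidHom.fst _ _).comp (kummerPairs c d).subtype).prod
      ((m • AddMonoidHom.id _).comp ((AddMonoidHom.snd _ _).comp (kummerPairs c d).subtype))).codRestrict
        (kummerPairs c (d * m)) fun p => (mem_kp hdim).2 (by
          show (d * m) • divEquiv hdim p.1.1 = dX (m • p.1.2)
          rw [map_nsmul, mul_comm, mul_nsmul', (mem_kp hdim).1 p.2]))).codRestrict _ fun p => by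
      show d • (QuotientAddGroup.mk _ : KummerPairGrp c (d * m)) = 0
      rw [← QuotientAddGroup.mk_nsmul, mk_eq_zero_iff hdim]
      exact ⟨p.1.2, mul_nsmul' _ _ _⟩
  have hker : ∀ p, F₀ p = 0 ↔ (QuotientAddGroup.mk p : KummerPairGrp c d) = 0 := fun p => by
    rw [mk_eq_zero_iff hdim]
    constructor
    · intro h
      obtain ⟨h', hh⟩ := (mk_eq_zero_iff hdim _).1 (congrArg Subtype.val h)
      have hh' : (d * m) • h' = m • p.1.2 := hh
      obtain ⟨w, hw⟩ := exists_root_of_torsion (c := c) hdim hm hk'.2 (z := p.1.2 - d • h') (by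
        rw [nsmul_sub, ← hh', mul_comm, mul_nsmul', sub_self]) hd
      exact ⟨h' + w, by rw [nsmul_add, hw]; abel⟩
    · rintro ⟨h, hh⟩
      refine Subtype.ext ((mk_eq_zero_iff hdim _).2 ⟨h, ?_⟩)
      show (d * m) • h = m • p.1.2
      rw [← hh, mul_comm, mul_nsmul']
  let F : KummerPairGrp c d →+ nTor d (KummerPairGrp c (d * m)) := QuotientAddGroup.lift _ F₀ fun p hp =>
    AddMonoidHom.mem_ker.2 ((hker p).2 ((QuotientAddGroup.eq_zero_iff _).2 hp))
  refine (Nat.card_eq_of_bijective F ⟨(injective_iff_map_eq_zero _).2 fun y hy => ?_, ?_⟩).symm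
  · obtain ⟨p, rfl⟩ := QuotientAddGroup.mk_surjective y
    exact (hker p).1 hy
  · rintro ⟨y, hy⟩
    obtain ⟨p, rfl⟩ := QuotientAddGroup.mk_surjective y
    have hy' : d • (QuotientAddGroup.mk p : KummerPairGrp c (d * m)) = 0 := hy
    rw [← QuotientAddGroup.mk_nsmul, mk_eq_zero_iff hdim] at hy'
    obtain ⟨h, hh⟩ := hy'
    have hh' : (d * m) • h = d • p.1.2 := hh
    obtain ⟨w, hw⟩ := exists_root_of_torsion (c := c) hdim hd hk'.1 (z := p.1.2 - m • h) (by
      rw [nsmul_sub, ← hh', mul_nsmul', sub_self]) hm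
    have hf' : p.1.2 = m • (h + w) := by rw [nsmul_add, hw]; abel
    refine ⟨QuotientAddGroup.mk ⟨(p.1.1, h + w), (mem_kp hdim).2 ?_⟩, Subtype.ext ?_⟩
    · refine smul_right_injective _ (show m ≠ 0 by omega) ?_
      show m • d • divEquiv hdim p.1.1 = m • dX (h + w)
      rw [← mul_nsmul', mul_comm, (mem_kp hdim).1 p.2, ← map_nsmul, ← hf']
    · show (QuotientAddGroup.mk _ : KummerPairGrp c (d * m)) = QuotientAddGroup.mk p
      exact congrArg QuotientAddGroup.mk (Subtype.ext (Prod.ext rfl hf'.symm))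

end Groth.Agent.CurvePair32
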